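import Groth.Agent.PnCohLib.FlatSections
import Groth.Agent.WedgeLib.FiltTools
import Groth.Agent.GrTildeLib.IsoCrit
import Groth.Agent.AmpleThLib.Pow
import Groth.Prelude.Def_ExtPow2

/-!
# Exterior powers of a twist by an invertible module
-/

set_option autoImplicit false
set_option maxHeartbeats 1000000
set_option linter.style.haveILetI false
set_option backward.isDefEq.respectTransparency false
set_option backward.isDefEq.respectTransparency.types false
universe u

open CategoryTheory CategoryTheory.Limits TopologicalSpace Opposite AlgebraicGeometry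
open AmpleLib (res res_res res_smul shT GenAt GenOn germ_res)

noncomputable section

namespace ExtTwistLib

variable {X : Scheme.{u}}

theorem shT_right_bijective {M N : X.Modules} {W : X.Opens} {g : Γ(N, W)} (hg : GenOn N g) :
    Function.Bijective fun a : Γ(M, W) => shT a g := by
  refine ⟨PnCohLib.shT_right_injective hg, fun w => ?_⟩
  have hloc : ∀ x : W, ∃ (U : X.Opens) (hU : U ≤ W), x.1 ∈ U ∧ ∃ a : Γ(M, U),
      shT a (res N hU g) = res (CohB1.tensorMod M N) hU w := by
    rintro ⟨x, hx⟩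
    obtain ⟨t, ht⟩ := ((KFlatLib.stalkTensorLin_bijective M N x).comp
      (GrTildeLib.bijective_tmul_gen (S := X.presheaf.stalk x) (A := M.presheaf.stalk x) _ (hg.genAt hx))).2
      ((CohB1.tensorMod M N).presheaf.germ W x hx w)
    obtain ⟨U, hxU, a, rfl⟩ := M.presheaf.exists_germ_eq (x := x) t
    have hxT : x ∈ U ⊓ W := ⟨hxU, hx⟩
    have e : (CohB1.tensorMod M N).presheaf.germ (U ⊓ W) x hxT (shT (res M inf_le_left a) (res N inf_le_right g)) =
        (CohB1.tensorMod M N).presheaf.germ (U ⊓ W) x hxT (res (CohB1.tensorMod M N) inf_le_right w) := by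
      rw [germ_res]
      refine Eq.trans ?_ ht
      refine (KFlatLib.stalkTensorLin_germ M N x hxT _ _).symm.trans ?_
      rw [germ_res, germ_res]
      rfl
    obtain ⟨V, hxV, i, i', hV⟩ := TopCat.Presheaf.germ_eq _ _ hxT hxT _ _ e
    obtain rfl : i' = i := Subsingleton.elim _ _
    refine ⟨V, i'.le.trans inf_le_right, hxV, res M i'.le (res M inf_le_left a), ?_⟩
    refine Eq.trans ?_ ((hV.trans (res_res _ _ _ w)))
    refine (congrArg (shT _) (res_res N (inf_le_right : U ⊓ W ≤ W) i'.le g).symm).trans ?_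
    exact (AmpleLib.shT_res i'.le _ _).symm
  choose U hU hxU a ha using hloc
  obtain ⟨s, hs, -⟩ := TopCat.Sheaf.existsUnique_gluing' (⟨M.presheaf, M.isSheaf⟩ : TopCat.Sheaf AddCommGrpCat _)
    U W (fun x => homOfLE (hU x)) (fun x hx => Opens.mem_iSup.2 ⟨⟨x, hx⟩, hxU _⟩) a (fun x y => by
      refine PnCohLib.shT_right_injective (hg.res ((inf_le_left : U x ⊓ U y ≤ U x).trans (hU x))) ?_
      change shT (res M (inf_le_left : U x ⊓ U y ≤ U x) (a x)) _ = shT (res M (inf_le_right : U x ⊓ U y ≤ U y) (a y)) _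
      have hx := congrArg (res (CohB1.tensorMod M N) (inf_le_left : U x ⊓ U y ≤ U x)) (ha x)
      have hy := congrArg (res (CohB1.tensorMod M N) (inf_le_right : U x ⊓ U y ≤ U y)) (ha y)
      replace hx := (AmpleLib.shT_res _ _ _).symm.trans hx
      replace hy := (AmpleLib.shT_res _ _ _).symm.trans hy
      rw [res_res, res_res] at hx hy
      exact hx.trans hy.symm)
  refine ⟨s, TopCat.Sheaf.eq_of_locally_eq' (⟨(CohB1.tensorMod M N).presheaf, (CohB1.tensorMod M N).isSheaf⟩ :
    TopCat.Sheaf AddCommGrpCat _) U W (fun x => homOfLE (hU x)) (fun x hx => Opens.mem_iSup.2 ⟨⟨x, hx⟩, hxU _⟩) _ _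
    fun x => ?_⟩
  refine Eq.trans (AmpleLib.shT_res (hU x) s g) ?_
  exact (congrArg (fun t => shT t (res N (hU x) g)) (hs x)).trans (ha x)

theorem map_bijective {R M M' : Type u} [CommRing R] [AddCommGroup M] [Module R M] [AddCommGroup M'] [Module R M']
    (k : ℕ) (e : M ≃ₗ[R] M') : Function.Bijective (exteriorPower.map k (e : M →ₗ[R] M')) := by
  refine Function.bijective_iff_has_inverse.2 ⟨exteriorPower.map k (e.symm : M' →ₗ[R] M), fun z => ?_, fun z => ?_⟩
  · rw [← LinearMap.comp_apply, ← exteriorPower.map_comp]; simp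
  · rw [← LinearMap.comp_apply, ← exteriorPower.map_comp]; simp

/-- **`⋀^k (E ⊗ L) ≅ ⋀^k E ⊗ L^k`.** -/
theorem nonempty_extPow_twist (E L : X.Modules) (hL : PicF.IsInvertible L) (k : ℕ) (M N : X.Modules)
    (hM : ExtPow.IsExtPow k (CohB1.tensorMod E L) M) (hN : ExtPow.IsExtPow k E N) :
    Nonempty (M ≅ CohB1.tensorMod N (CohB1.tensorPow L k)) := by
  classical
  obtain ⟨φ, hφ⟩ := hM
  obtain ⟨ψ, hψ⟩ := hN
  let P : X.affineOpens → Prop := fun V => ∃ l : Γ(L, V.1), GenOn L l
  have hP : ∀ (W : X.Opens) (x : X), x ∈ W → ∃ A : X.affineOpens, P A ∧ x ∈ A.1 ∧ A.1 ≤ W := fun W x hx => by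
    obtain ⟨U, e, hxU, he⟩ := TwistLib.exists_genOn hL x
    obtain ⟨A, hA, hxA, hle⟩ := exists_isAffineOpen_mem_and_subset (X := X) (x := x) (U := U ⊓ W) ⟨hxU, hx⟩
    exact ⟨⟨A, hA⟩, ⟨res L (hle.trans inf_le_left) e, he.res _⟩, hxA, hle.trans inf_le_right⟩
  let tw : ∀ (V : X.Opens) (l : Γ(L, V)), GenOn L l → (Γ(E, V) ≃ₗ[Γ(X, V)] Γ(CohB1.tensorMod E L, V)) :=
    fun V l hl => LinearEquiv.ofBijective (PnCohLib.shTLin (M := E) l) (shT_right_bijective hl)
  let F : ∀ (V : X.affineOpens) (l : Γ(L, V.1)) (_ : GenOn L l),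
      Γ(M, V.1) →ₗ[Γ(X, V.1)] Γ(CohB1.tensorMod N (CohB1.tensorPow L k), V.1) := fun V l hl =>
    (PnCohLib.shTLin (M := N) (AmpleThLib.pS l k)).comp
      ((ψ V).symm.toLinearMap.comp
        ((exteriorPower.map (M := (CohB1.tensorMod E L).val.obj (op V.1)) (N := E.val.obj (op V.1)) k
          (tw V.1 l hl).symm.toLinearMap).comp (φ V).toLinearMap))
  have hFgen : ∀ (V : X.affineOpens) (l : Γ(L, V.1)) (hl : GenOn L l) (e : Fin k → Γ(E, V.1)),
      F V l hl ((φ V).symm (exteriorPower.ιMulti Γ(X, V.1) k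
        (M := (CohB1.tensorMod E L).val.obj (op V.1)) fun j => shT (e j) l)) =
      shT ((ψ V).symm (exteriorPower.ιMulti Γ(X, V.1) k (M := E.val.obj (op V.1)) e)) (AmpleThLib.pS l k) := by
    intro V l hl e
    show shT ((ψ V).symm (exteriorPower.map (M := (CohB1.tensorMod E L).val.obj (op V.1))
      (N := E.val.obj (op V.1)) k (tw V.1 l hl).symm.toLinearMap ((φ V) ((φ V).symm _)))) (AmpleThLib.pS l k) = _
    rw [LinearEquiv.apply_symm_apply]
    refine congrArg (fun z => shT ((ψ V).symm z) (AmpleThLib.pS l k)) ?_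
    refine (exteriorPower.map_apply_ιMulti _ _).trans ?_
    exact congrArg (exteriorPower.ιMulti Γ(X, V.1) k (M := E.val.obj (op V.1)))
      (funext fun j => (tw V.1 l hl).symm_apply_apply (e j))
  have hF : ∀ (U V : X.affineOpens) (l : Γ(L, U.1)) (hl : GenOn L l) (l' : Γ(L, V.1)) (hl' : GenOn L l')
      (h : V.1 ≤ U.1) (t : Γ(M, U.1)), res (CohB1.tensorMod N (CohB1.tensorPow L k)) h (F U l hl t) =
        F V l' hl' (res M h t) := by
    intro U V l hl l' hl' h t
    let σ : Γ(X, U.1) →+* Γ(X, V.1) := (X.presheaf.map (homOfLE h).op).hom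
    let f₁ : Γ(M, U.1) →ₛₗ[σ] Γ(CohB1.tensorMod N (CohB1.tensorPow L k), V.1) :=
      { toFun := fun t => res _ h (F U l hl t)
        map_add' := fun a b => by simp only [map_add]
        map_smul' := fun c a => by rw [map_smul, res_smul] }
    let f₂ : Γ(M, U.1) →ₛₗ[σ] Γ(CohB1.tensorMod N (CohB1.tensorPow L k), V.1) :=
      { toFun := fun t => F V l' hl' (res M h t)
        map_add' := fun a b => by simp only [map_add]
        map_smul' := fun c a => by rw [res_smul, map_smul] }
    have hspan : Submodule.span Γ(X, U.1) (Set.range fun e : Fin k → Γ(CohB1.tensorMod E L, U.1) =>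
        (φ U).symm (exteriorPower.ιMulti Γ(X, U.1) k (M := (CohB1.tensorMod E L).val.obj (op U.1)) e)) = ⊤ := by
      rw [Set.range_comp' (φ U).symm]
      erw [← LinearEquiv.coe_coe, Submodule.span_image]
      erw [exteriorPower.ιMulti_span]
      rw [Submodule.map_top, LinearEquiv.range]
    refine DFunLike.congr_fun (LinearMap.ext_on_range hspan (f := f₁) (g := f₂) fun e' => ?_) t
    obtain ⟨e, rfl⟩ : ∃ e : Fin k → Γ(E, U.1), (fun j => shT (e j) l) = e' :=
      ⟨fun j => ((shT_right_bijective (M := E) hl).2 (e' j)).choose,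
        funext fun j => ((shT_right_bijective (M := E) hl).2 (e' j)).choose_spec⟩
    show res _ h (F U l hl _) = F V l' hl' (res M h _)
    obtain ⟨c, hc⟩ := (hl' V.1 le_rfl).2 (res L h l)
    rw [AmpleLib.res_refl] at hc
    rw [hFgen U l hl e]
    have h1 : res M h ((φ U).symm (exteriorPower.ιMulti Γ(X, U.1) k
        (M := (CohB1.tensorMod E L).val.obj (op U.1)) fun j => shT (e j) l)) =
        (φ V).symm (exteriorPower.ιMulti Γ(X, V.1) k
          (M := (CohB1.tensorMod E L).val.obj (op V.1)) fun j => shT (c • res E h (e j)) l') := by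
      refine (hφ U V h fun j => shT (e j) l).trans (congrArg (fun z => (φ V).symm (exteriorPower.ιMulti Γ(X, V.1) k
        (M := (CohB1.tensorMod E L).val.obj (op V.1)) z)) (funext fun j => ?_))
      refine (AmpleLib.shT_res h (e j) l).trans ?_
      rw [show res L h l = c • l' from hc.symm]
      have a1 := AmpleLib.shT_smul 1 c (res E h (e j)) l'
      have a2 := AmpleLib.shT_smul c 1 (res E h (e j)) l'
      rw [one_smul, one_mul] at a1
      rw [one_smul, mul_one] at a2
      exact a1.trans a2.symm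
    rw [h1, hFgen V l' hl']
    refine (AmpleLib.shT_res h _ _).trans ?_
    rw [AmpleThLib.pS_res, show res L h l = c • l' from hc.symm, AmpleThLib.pS_smul]
    have h2 : (ψ V).symm (exteriorPower.ιMulti Γ(X, V.1) k (M := E.val.obj (op V.1)) fun j => c • res E h (e j)) =
        c ^ k • res N h ((ψ U).symm (exteriorPower.ιMulti Γ(X, U.1) k (M := E.val.obj (op U.1)) e)) := by
      rw [AlternatingMap.map_smul_univ, map_smul, Finset.prod_const, Finset.card_univ, Fintype.card_fin]
      exact congrArg (c ^ k • ·) (hψ U V h e).symm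
    rw [h2]
    have a1 := AmpleLib.shT_smul 1 (c ^ k) (res N h ((ψ U).symm (exteriorPower.ιMulti Γ(X, U.1) k
      (M := E.val.obj (op U.1)) e))) (AmpleThLib.pS l' k)
    have a2 := AmpleLib.shT_smul (c ^ k) 1 (res N h ((ψ U).symm (exteriorPower.ιMulti Γ(X, U.1) k
      (M := E.val.obj (op U.1)) e))) (AmpleThLib.pS l' k)
    rw [one_smul, one_mul] at a1
    rw [one_smul, mul_one] at a2
    exact a1.trans a2.symm
  obtain ⟨Φ, hΦ⟩ := WedgeLib.exists_hom_on P hP (fun U hU => F U hU.choose hU.choose_spec)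
    fun U V hU hV h t => hF U V hU.choose hU.choose_spec hV.choose hV.choose_spec h t
  haveI : IsIso Φ := GrTildeLib.isIso_of_bijective_basis Φ
    (fun U : { U : X.affineOpens // P U } => U.1.1)
    (fun V x hx => by
      obtain ⟨A, hA, hxA, hle⟩ := hP V x hx
      exact ⟨⟨A, hA⟩, hxA, hle⟩)
    fun ⟨U, hU⟩ => by
      rw [show ⇑(Φ.app U.1) = ⇑(F U hU.choose hU.choose_spec) from funext (hΦ U hU)]
      exact ((shT_right_bijective (AmpleThLib.pS_genOn hU.choose_spec k)).comp ((ψ U).symm.bijective.comp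
        ((map_bijective k (tw U.1 hU.choose hU.choose_spec).symm).comp (φ U).bijective)))
  exact ⟨asIso Φ⟩

end ExtTwistLib

end
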